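import Mathlib
import Cfsg.Prelude.Def_Sporadic_a
import Cfsg.Agent.J4C.Data
import Cfsg.Agent.SporadicA.ChainCert

/-!
# The Steiner system S(3,6,22) of the involution centraliser of J4 and its automorphisms
-/

set_option autoImplicit false

namespace Cfsg.Agent.J4C.Steiner

open Cfsg.Agent.J4C.Data Cfsg.Agent.SporadicA.DegPOne Cfsg.Agent.SporadicA.ChainCert
open Pointwise

/-- the mask of block `b` -/
def mask (b : ℕ) : ℕ := masks.getD b 0

/-- the blocks -/
def blk (b : Fin 77) : Finset (Fin 22) := Finset.univ.filter fun p => (mask b).testBit p = true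

theorem mem_blk (b : Fin 77) (p : Fin 22) : p ∈ blk b ↔ (mask b).testBit p = true := by
  simp [blk]

/-- popcount of the low `n` bits -/
def pc (m : ℕ) : ℕ → ℕ
  | 0 => 0
  | n + 1 => pc m n + (m.testBit n).toNat

theorem pc_eq (m : ℕ) (n : ℕ) :
    (Finset.univ.filter fun p : Fin n => m.testBit p = true).card = pc m n := by
  induction n with
  | zero => rfl
  | succ n ih =>
    rw [pc, ← ih, Finset.card_filter, Finset.card_filter, Fin.sum_univ_castSucc]
    congr 1
    simp only [Fin.val_last]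
    by_cases h : m.testBit n = true
    · rw [if_pos h, h]; rfl
    · have h' : m.testBit n = false := by simpa using h
      rw [if_neg h, h']; rfl

theorem card_blk (b : Fin 77) : (blk b).card = 6 := by
  rw [blk, pc_eq]
  revert b
  decide +kernel

theorem pc_land : ∀ b b' : Fin 77, b ≠ b' → pc (Nat.land (mask b) (mask b')) 22 ≤ 2 := by
  decide +kernel

theorem card_inter {b b' : Fin 77} (h : b ≠ b') : (blk b ∩ blk b').card ≤ 2 := by
  have h1 : blk b ∩ blk b' =
      Finset.univ.filter fun p : Fin 22 => (Nat.land (mask b) (mask b')).testBit p = true := by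
    ext p
    rw [Finset.mem_inter, mem_blk, mem_blk, Finset.mem_filter]
    show _ ↔ _ ∧ ((mask b) &&& (mask b')).testBit p = true
    rw [Nat.testBit_and]
    simp
  rw [h1, pc_eq]
  exact pc_land b b' h

theorem exists_sorted : ∀ x y z : Fin 22, x < y → y < z → ∃ b : Fin 77,
    (mask b).testBit x = true ∧ (mask b).testBit y = true ∧ (mask b).testBit z = true := by
  decide +kernel

theorem exists_blk (x y z : Fin 22) (hxy : x ≠ y) (hxz : x ≠ z) (hyz : y ≠ z) :
    ∃ b, x ∈ blk b ∧ y ∈ blk b ∧ z ∈ blk b := by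
  simp only [mem_blk]
  rcases lt_or_gt_of_ne hxy with h1 | h1 <;> rcases lt_or_gt_of_ne hxz with h2 | h2 <;>
    rcases lt_or_gt_of_ne hyz with h3 | h3
  · obtain ⟨b, h⟩ := exists_sorted x y z h1 h3; exact ⟨b, h⟩
  · obtain ⟨b, h⟩ := exists_sorted x z y h2 h3; exact ⟨b, h.1, h.2.2, h.2.1⟩
  · exact absurd (h1.trans h3) (not_lt_of_gt h2)
  · obtain ⟨b, h⟩ := exists_sorted z x y h2 h1; exact ⟨b, h.2.1, h.2.2, h.1⟩
  · obtain ⟨b, h⟩ := exists_sorted y x z h1 h2; exact ⟨b, h.2.1, h.1, h.2.2⟩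
  · exact absurd (h1.trans h2) (not_lt_of_gt h3)
  · obtain ⟨b, h⟩ := exists_sorted y z x h3 h2; exact ⟨b, h.2.2, h.1, h.2.1⟩
  · obtain ⟨b, h⟩ := exists_sorted z y x h3 h1; exact ⟨b, h.2.2, h.2.1, h.1⟩

theorem isSteiner : Cfsg.IsSteinerSystem 3 6 (Set.range blk) := by
  constructor
  · rintro _ ⟨b, rfl⟩
    exact card_blk b
  · intro s hs
    obtain ⟨x, y, z, hxy, hxz, hyz, rfl⟩ := Finset.card_eq_three.mp hs
    obtain ⟨b, hx, hy, hz⟩ := exists_blk x y z hxy hxz hyz
    have hsub : ({x, y, z} : Finset (Fin 22)) ⊆ blk b := by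
      intro p hp
      simp only [Finset.mem_insert, Finset.mem_singleton] at hp
      rcases hp with rfl | rfl | rfl
      · exact hx
      · exact hy
      · exact hz
    refine ⟨blk b, ⟨⟨b, rfl⟩, hsub⟩, ?_⟩
    rintro _ ⟨⟨b', rfl⟩, h'⟩
    by_contra hne
    have hbb : b' ≠ b := fun h => hne (by rw [h])
    have h1 := Finset.card_le_card (Finset.subset_inter h' hsub)
    have h2 := card_inter hbb
    omega

theorem sep : ∀ p q : Fin 22, p ≠ q → ∃ b : Fin 77,
    (mask b).testBit p = true ∧ (mask b).testBit q = false := by decide +kernel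

theorem hblk (σ : Equiv.Perm (Fin 22)) (h : ∀ b, σ • blk b = blk b) : σ = 1 := by
  ext p
  by_contra hne
  have hne' : p ≠ σ p := fun h => hne (by rw [← h]; rfl)
  obtain ⟨b, h1, h2⟩ := sep p (σ p) hne'
  rw [← mem_blk] at h1
  have h3 : σ • p ∈ σ • blk b := Finset.smul_mem_smul_finset h1
  rw [h b] at h3
  have h4 := (mem_blk b _).mp h3
  rw [show σ • p = σ p from rfl] at h4
  rw [h4] at h2
  exact absurd h2 (by simp)

/-- look up in a packed table of 5-bit entries -/
def lk5 (T x : ℕ) : ℕ := Nat.land (Nat.shiftRight T (Nat.mul 5 x)) 31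

theorem tab_ok : ∀ i : Fin 28, ∀ x : Fin 22, lk5 (tabT.getD i 0) x < 22 ∧ lk5 (tabS.getD i 0) x < 22 ∧
    lk5 (tabS.getD i 0) (lk5 (tabT.getD i 0) x) = x ∧
    lk5 (tabT.getD i 0) (lk5 (tabS.getD i 0) x) = x := by decide +kernel

/-- the permutations of the 22 points (left action) -/
def tau (i : Fin 28) : Equiv.Perm (Fin 22) :=
  mkPerm 22 (lk5 (tabT.getD i 0)) (lk5 (tabS.getD i 0)) (tab_ok i)

theorem tau_apply (i : Fin 28) (x : Fin 22) : ((tau i x : Fin 22) : ℕ) = lk5 (tabT.getD i 0) x := rfl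

/-- the list of generators -/
def tauL : List (Equiv.Perm (Fin 22)) := (List.finRange 28).map tau

theorem comp_tauL : List.Forall₂ Comp tauL (tabT.map lk5) := by
  have h : tabT.map lk5 = (List.finRange 28).map (fun i : Fin 28 => lk5 (tabT.getD i 0)) := rfl
  rw [h, tauL]
  rw [List.forall₂_map_left_iff, List.forall₂_map_right_iff, List.forall₂_same]
  intro i _ x
  rfl

theorem chain_ok : chainCheck 22 (tabT.map lk5) [] chain = true := by decide +kernel

theorem chain_prod : chainProd chain = 887040 := by decide +kernel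

theorem card_ge (K : Subgroup (Equiv.Perm (Fin 22))) (h : ∀ i, tau i ∈ K) : 887040 ≤ Nat.card K := by
  rw [← chain_prod]
  refine Cfsg.Agent.SporadicA.ChainCert.card_ge K ?_ comp_tauL chain chain_ok
  intro g hg
  obtain ⟨i, -, rfl⟩ := List.mem_map.mp hg
  exact h i

end Cfsg.Agent.J4C.Steiner
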