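import Mathlib
import Cfsg.Prelude.Def_Sporadic_a

/-!
# A homomorphism to the automorphism group of a Steiner system from an action on the blocks
-/

set_option autoImplicit false

namespace Cfsg.Agent.J4C.Theta

open Pointwise

variable {Γ V : Type*} [Group Γ] [MulAction Γ V] {α β : Type*} [DecidableEq α] [Finite β]

/-- pairs `(g, σ)` inducing the same permutation of the blocks -/
def pairs (vec : β → V) (blk : β → Finset α) : Set (Γ × Equiv.Perm α) :=
  {p | ∀ b, ∃ b', p.1 • vec b = vec b' ∧ p.2 • blk b = blk b'}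

/-- the subgroup of compatible pairs -/
def pairGroup (vec : β → V) (hvec : Function.Injective vec) (blk : β → Finset α) :
    Subgroup (Γ × Equiv.Perm α) where
  carrier := pairs vec blk
  one_mem' := fun b => ⟨b, one_smul _ _, one_smul _ _⟩
  mul_mem' := by
    intro p q hp hq b
    obtain ⟨b1, h1, h2⟩ := hq b
    obtain ⟨b2, h3, h4⟩ := hp b1
    refine ⟨b2, ?_, ?_⟩
    · show (p.1 * q.1) • vec b = vec b2
      rw [mul_smul, h1, h3]
    · show (p.2 * q.2) • blk b = blk b2
      rw [mul_smul, h2, h4]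
  inv_mem' := by
    intro p hp
    choose f h1 h2 using hp
    have hf : Function.Injective f := by
      intro a b hab
      apply hvec
      have h3 := h1 a
      rw [hab, ← h1 b] at h3
      exact smul_left_cancel _ h3
    have hs := Finite.injective_iff_surjective.mp hf
    intro b
    obtain ⟨b', rfl⟩ := hs b
    refine ⟨b', ?_, ?_⟩
    · show p.1⁻¹ • vec (f b') = vec b'
      rw [← h1, inv_smul_smul]
    · show p.2⁻¹ • blk (f b') = blk b'
      rw [← h2, inv_smul_smul]

variable (vec : β → V) (hvec : Function.Injective vec) (blk : β → Finset α)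

theorem eq_of_pairs (hblk : ∀ σ : Equiv.Perm α, (∀ b, σ • blk b = blk b) → σ = 1) (hvec : Function.Injective vec)
    {g : Γ} {σ σ' : Equiv.Perm α}
    (h : (g, σ) ∈ pairs vec blk) (h' : (g, σ') ∈ pairs vec blk) : σ = σ' := by
  have key : σ'⁻¹ * σ = 1 := by
    apply hblk
    intro b
    obtain ⟨b1, h1, h2⟩ := h b
    obtain ⟨b2, h3, h4⟩ := h' b
    have h1' : g • vec b = vec b1 := h1
    have h3' : g • vec b = vec b2 := h3
    have h5 : b1 = b2 := hvec (by rw [← h1', h3'])
    subst h5
    have h2' : σ • blk b = blk b1 := h2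
    have h4' : σ' • blk b = blk b1 := h4
    rw [mul_smul, h2', ← h4', inv_smul_smul]
  exact (inv_mul_eq_one.mp key).symm

/-- **The homomorphism** on the subgroup generated by compatible elements. -/
theorem exists_theta {ι : Type*} (hvec : Function.Injective vec)
    (hblk : ∀ σ : Equiv.Perm α, (∀ b, σ • blk b = blk b) → σ = 1)
    (s : ι → Γ) (τ : ι → Equiv.Perm α) (hs : ∀ i, (s i, τ i) ∈ pairs vec blk) :
    ∃ θ : Subgroup.closure (Set.range s) →* Cfsg.setSystemAut (Set.range blk),
      ∀ i, ((θ ⟨s i, Subgroup.subset_closure ⟨i, rfl⟩⟩ : Cfsg.setSystemAut (Set.range blk)) :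
        Equiv.Perm α) = τ i := by
  classical
  let P : Subgroup (Γ × Equiv.Perm α) := pairGroup vec hvec blk
  have hex : ∀ g : Subgroup.closure (Set.range s), ∃ σ : Equiv.Perm α, ((g : Γ), σ) ∈ P := by
    have h1 : Subgroup.closure (Set.range s) ≤ P.map (MonoidHom.fst Γ (Equiv.Perm α)) := by
      rw [Subgroup.closure_le]
      rintro _ ⟨i, rfl⟩
      exact ⟨(s i, τ i), hs i, rfl⟩
    intro g
    obtain ⟨⟨a, σ⟩, h2, h3⟩ := h1 g.2
    have h3' : a = (g : Γ) := h3
    subst h3'
    exact ⟨σ, h2⟩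
  choose f hf using hex
  have huniq : ∀ (g : Γ) (σ σ' : Equiv.Perm α), (g, σ) ∈ P → (g, σ') ∈ P → σ = σ' :=
    fun g σ σ' h h' => eq_of_pairs vec blk hblk hvec h h'
  have hmem : ∀ g, f g ∈ Cfsg.setSystemAut (Set.range blk) := by
    intro g
    rw [MulAction.mem_stabilizer_iff]
    have hsub : ∀ g, f g • Set.range blk ⊆ Set.range blk := by
      intro g
      rintro _ ⟨_, ⟨b, rfl⟩, rfl⟩
      obtain ⟨b', -, h⟩ := hf g b
      exact ⟨b', h.symm⟩
    have hinv : f g⁻¹ = (f g)⁻¹ := by
      apply huniq _ _ _ (hf g⁻¹)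
      have := P.inv_mem (hf g)
      exact this
    apply Set.Subset.antisymm (hsub g)
    have h2 := hsub g⁻¹
    rw [hinv] at h2
    intro x hx
    have h3 : (f g)⁻¹ • x ∈ Set.range blk := h2 ⟨x, hx, rfl⟩
    exact ⟨(f g)⁻¹ • x, h3, smul_inv_smul _ _⟩
  refine ⟨{ toFun := fun g => ⟨f g, hmem g⟩, map_one' := ?_, map_mul' := ?_ }, ?_⟩
  · apply Subtype.ext
    exact huniq _ _ _ (hf 1) P.one_mem
  · intro a b
    apply Subtype.ext
    exact huniq _ _ _ (hf (a * b)) (P.mul_mem (hf a) (hf b))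
  · intro i
    exact huniq _ _ _ (hf _) (hs i)

end Cfsg.Agent.J4C.Theta
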