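import Mathlib
import Cfsg.Agent.J4C.Steiner
import Cfsg.Agent.J4C.Theta
import Cfsg.Agent.Lib.F2MatGroup

/-!
# The action of the involution centraliser of J4 on 77 vectors
-/

set_option autoImplicit false

namespace Cfsg.Agent.J4C.Act

open Cfsg.Agent.J4C.Data Cfsg.Agent.J4C.Steiner Cfsg.Agent.J4C.Theta
open Cfsg.Agent.Lib Cfsg.Agent.Lib.F2MatGroup
open Pointwise

/-- vector number `b` -/
def vc (b : ℕ) : ℕ := Nat.land (Nat.shiftRight vecs (Nat.mul 112 b)) (Nat.sub (Nat.pow 2 112) 1)

theorem vc_lt (b : ℕ) : vc b < 2 ^ 112 := by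
  show (vecs >>> (112 * b)) &&& (2 ^ 112 - 1) < 2 ^ 112
  rw [Nat.and_two_pow_sub_one_eq_mod]
  exact Nat.mod_lt _ (by positivity)

theorem vc_inj : ∀ b b' : Fin 77, vc b = vc b' → b = b' := by decide +kernel

/-- look up in a packed table of 7-bit entries -/
def lk7 (T x : ℕ) : ℕ := Nat.land (Nat.shiftRight T (Nat.mul 7 x)) 127

theorem tabB_lt : ∀ i : Fin 26, ∀ b : Fin 77, lk7 (tabB.getD i 0) b < 77 := by decide +kernel

/-- the permutation of the blocks (right multiplication) -/
def beta (i : Fin 26) (b : Fin 77) : Fin 77 := ⟨lk7 (tabB.getD i 0) b, tabB_lt i b⟩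

/-- the matrix check for one generator -/
def chk (A T : ℕ) : Bool :=
  Nat.rec (motive := fun _ => Bool) true
    (fun b ih => cond (Nat.beq (F2Mat.vmul 112 (vc b) A) (vc (lk7 T b))) ih false) 77

theorem chk_sound_aux (A T : ℕ) : ∀ n : ℕ, (Nat.rec (motive := fun _ => Bool) true
    (fun b ih => cond (Nat.beq (F2Mat.vmul 112 (vc b) A) (vc (lk7 T b))) ih false) n : Bool) = true →
      ∀ b < n, F2Mat.vmul 112 (vc b) A = vc (lk7 T b)
  | 0, _, b, hb => absurd hb (Nat.not_lt_zero b)
  | n + 1, h, b, hb => by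
    have h' : cond (Nat.beq (F2Mat.vmul 112 (vc n) A) (vc (lk7 T n)))
      (Nat.rec (motive := fun _ => Bool) true
        (fun b ih => cond (Nat.beq (F2Mat.vmul 112 (vc b) A) (vc (lk7 T b))) ih false) n : Bool)
          false = true := h
    rcases hc : Nat.beq (F2Mat.vmul 112 (vc n) A) (vc (lk7 T n)) with _ | _
    · rw [hc] at h'; exact absurd h' Bool.false_ne_true
    · rw [hc] at h'
      rcases Nat.lt_succ_iff_lt_or_eq.mp hb with h1 | h1
      · exact chk_sound_aux A T n h' b h1
      · subst h1; exact Nat.eq_of_beq_eq_true hc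

theorem chk_sound {A T : ℕ} (h : chk A T = true) (b : ℕ) (hb : b < 77) :
    F2Mat.vmul 112 (vc b) A = vc (lk7 T b) := chk_sound_aux A T 77 h b hb

/-- all generators -/
def chkAll (l : List ℕ) (m : List ℕ) : Bool :=
  List.rec (motive := fun _ => List ℕ → Bool) (fun _ => true)
    (fun T _ ih m => List.rec (motive := fun _ => Bool) false (fun A m' _ => cond (chk A T) (ih m') false) m) l m

theorem chkAll_sound : ∀ (l m : List ℕ), chkAll l m = true → ∀ i < l.length,
    chk (m.getD i 0) (l.getD i 0) = true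
  | [], _, _, i, hi => absurd hi (Nat.not_lt_zero i)
  | T :: l, [], h, _, _ => absurd (show false = true from h) Bool.false_ne_true
  | T :: l, A :: m, h, i, hi => by
    have h' : cond (chk A T) (chkAll l m) false = true := h
    rcases hc : chk A T with _ | _
    · rw [hc] at h'; exact absurd h' Bool.false_ne_true
    · rw [hc] at h'
      rcases i with _ | i
      · exact hc
      · exact chkAll_sound l m h' i (by simpa using hi)

theorem chkAll_ok : chkAll tabB mats = true := by decide +kernel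

theorem blocks_ok : ∀ i : Fin 26, ∀ b : Fin 77, ∀ p : Fin 22,
    (mask b).testBit (lk5 (tabT.getD i 0) p) = (mask (lk7 (tabB.getD i 0) b)).testBit p := by
  decide +kernel

/-! ### The action -/

/-- Row vectors with the left action `g • v = v g⁻¹` through a homomorphism to the matrix group. -/
structure RV (C : Type*) where
  /-- the vector -/
  v : Fin 112 → ZMod 2

/-- the action -/
@[reducible] def act {C : Type*} [Group C] (φ : C →* GL (Fin 112) (ZMod 2)) : MulAction C (RV C) where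
  smul g x := ⟨Matrix.vecMul x.v ((φ g)⁻¹ : GL (Fin 112) (ZMod 2)).1⟩
  one_smul x := by
    show RV.mk (Matrix.vecMul x.v ((φ 1)⁻¹ : GL (Fin 112) (ZMod 2)).1) = x
    rw [map_one, inv_one]
    show RV.mk (Matrix.vecMul x.v 1) = x
    rw [Matrix.vecMul_one]
  mul_smul g h x := by
    show RV.mk (Matrix.vecMul x.v ((φ (g * h))⁻¹ : GL (Fin 112) (ZMod 2)).1) =
      RV.mk (Matrix.vecMul (Matrix.vecMul x.v ((φ h)⁻¹ : GL (Fin 112) (ZMod 2)).1)
        ((φ g)⁻¹ : GL (Fin 112) (ZMod 2)).1)
    rw [map_mul, mul_inv_rev, Units.val_mul, Matrix.vecMul_vecMul]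

/-- the 77 vectors -/
def vec (C : Type*) (b : Fin 77) : RV C := ⟨F2Mat.toVec 112 (vc b)⟩

theorem vec_injective (C : Type*) : Function.Injective (vec C) := by
  intro b b' h
  apply vc_inj
  exact F2Mat.toVec_inj (vc_lt b) (vc_lt b') (congrArg RV.v h)

theorem vecMul_ok (i : Fin 26) (M : Matrix (Fin 112) (Fin 112) (ZMod 2))
    (hM : M = F2Mat.toMat 112 (mats.getD i 0)) (b : Fin 77) :
    Matrix.vecMul (F2Mat.toVec 112 (vc b)) M = F2Mat.toVec 112 (vc (beta i b)) := by
  rw [hM, ← F2Mat.toVec_vmul]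
  exact congrArg (F2Mat.toVec 112) (chk_sound (chkAll_sound tabB mats chkAll_ok i i.2) b b.2)

/-- number `i` as an element of `Fin 28` -/
def up (i : Fin 26) : Fin 28 := ⟨i, by omega⟩

theorem mem_pairs {C : Type*} [Group C] (φ : C →* GL (Fin 112) (ZMod 2)) (i : Fin 26) (g : C)
    (hg : Codes 112 (φ g) (mats.getD i 0)) :
    let _ := act φ
    (g, tau (up i)) ∈ pairs (vec C) blk := by
  let _ := act φ
  have h1 : (g⁻¹, (tau (up i))⁻¹) ∈ pairGroup (vec C) (vec_injective C) blk := by
    intro b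
    refine ⟨beta i b, ?_, ?_⟩
    · have h5 : (((φ g⁻¹)⁻¹ : GL (Fin 112) (ZMod 2)) : Matrix (Fin 112) (Fin 112) (ZMod 2)) =
          F2Mat.toMat 112 (mats.getD i 0) := by
        rw [map_inv, inv_inv]; exact hg
      exact congrArg RV.mk (vecMul_ok i _ h5 b)
    · ext p
      rw [Finset.mem_inv_smul_finset_iff, mem_blk, mem_blk]
      show (mask b).testBit (lk5 (tabT.getD i 0) p) = true ↔ _
      rw [blocks_ok i b p]
      rfl
  have h2 := (pairGroup (vec C) (vec_injective C) blk).inv_mem h1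
  have h3 : ((g⁻¹, (tau (up i))⁻¹)⁻¹ : C × Equiv.Perm (Fin 22)) = (g, tau (up i)) := by
    ext <;> simp
  rw [h3] at h2
  exact h2

end Cfsg.Agent.J4C.Act
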