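import Mathlib
import Cfsg.Agent.J4C.Data
import Cfsg.Agent.LargeExtra.Pres
import Cfsg.Agent.J2.ExtQuot
import Cfsg.Agent.Lib.F2MatGroup

/-!
# The extraspecial subgroup `2^(1+12)` and the element of order 3 in the involution centraliser of J4
-/

set_option autoImplicit false

namespace Cfsg.Agent.J4C.Ext

open Cfsg.Agent.J4C.Data Cfsg.Agent.Lib Cfsg.Agent.Lib.F2MatGroup
open Cfsg.Agent.LargeExtra.Model Cfsg.Agent.LargeExtra.Pres

/-- the form -/
def B (i : ℕ) : ℕ := form.getD i 0

theorem hTri : Tri B 12 := by decide +kernel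

theorem nondeg_aux : ∀ a b : Fin 64, (64 * a.1 + b.1 ≠ 0) →
    ∃ i : Fin 12, bf B 12 (64 * a.1 + b.1) (2 ^ i.1) ≠ bf B 12 (2 ^ i.1) (64 * a.1 + b.1) := by
  decide +kernel

theorem hNon : Nondeg B 12 := by
  intro v hv
  have h1 : v.1 / 64 < 64 := by have := v.2; omega
  have h2 : v.1 % 64 < 64 := by omega
  have h3 := nondeg_aux ⟨v.1 / 64, h1⟩ ⟨v.1 % 64, h2⟩
  have h4 : 64 * (v.1 / 64) + v.1 % 64 = v.1 := by omega
  simp only [h4] at h3
  exact h3 hv

theorem isExtraspecial_XG : Cfsg.IsExtraspecial 2 (XG B 12) := by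
  have : Fact (Nat.Prime 2) := ⟨Nat.prime_two⟩
  refine Cfsg.Agent.J2.ExtQuot.isExtraspecial_two (IsPGroup.of_card (n := 12 + 1) card_XG)
    (card_center hNon) ?_ ?_
  · intro x
    rw [pow_two]
    rcases mul_self_mem x with h | h
    · rw [h]; exact Subgroup.one_mem _
    · rw [h]; exact zz_mem_center
  · obtain ⟨i, hi⟩ := hNon ⟨1, by norm_num⟩ (by norm_num)
    refine ⟨⟨⟨1, by norm_num⟩, false⟩, ⟨⟨2 ^ i.1, Nat.pow_lt_pow_right (by norm_num) i.2⟩, false⟩, ?_⟩
    rw [Ne, comm_iff]
    exact hi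

/-! ### The relations -/

/-- index of `q i` -/
def qi (i : ℕ) : ℕ := Nat.sub 14 i

/-- word for the ordered product -/
def pw : ℕ → ℕ → List ℕ
  | 0, _ => []
  | k + 1, v => pw k v ++ (if v.testBit k then [qi k] else [])

/-- the equations -/
def relW (i j : ℕ) : List ℕ × List ℕ :=
  ([qi i, qi j], (if (form.getD i 0).testBit j then [17] else []) ++ [qi j, qi i])

/-- the action of `r` -/
def relR (i : ℕ) : List ℕ × List ℕ :=
  ([0, qi i], (if (img.getD i (0, 0)).2.testBit 0 then [17] else []) ++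
    (pw 12 (img.getD i (0, 0)).1 ++ [0]))

/-- all the equations -/
def es : List (List ℕ × List ℕ) :=
  [([17, 17], []), ([0, 0, 0], []), ([0, 17], [17, 0])] ++ (List.range 12).map (fun i => ([qi i, 17], [17, qi i])) ++
    (List.range 12).map (fun i => ([qi i, qi i], [])) ++
    (List.range 12).flatMap (fun i => (List.range i).map (relW i)) ++
    (List.range 12).map relR

/-- the inequalities -/
def ns : List (List ℕ × List ℕ) := [([17], []), ([0], [])]

theorem check_ok : check 112 mats prog es ns = true := by decide +kernel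

theorem mem_es1 : ([17, 17], ([] : List ℕ)) ∈ es := by decide +kernel
theorem mem_es2 : ([0, 0, 0], ([] : List ℕ)) ∈ es := by decide +kernel
theorem mem_es3 : ([0, 17], [17, 0]) ∈ es := by decide +kernel
theorem mem_es4 : ∀ i : Fin 12, ([qi i, 17], [17, qi i]) ∈ es := by decide +kernel
theorem mem_es5 : ∀ i : Fin 12, ([qi i, qi i], ([] : List ℕ)) ∈ es := by decide +kernel
theorem mem_es6 : ∀ i : Fin 12, ∀ j : Fin 12, j.1 < i.1 → relW i j ∈ es := by decide +kernel
theorem mem_es7 : ∀ i : Fin 12, relR i ∈ es := by decide +kernel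
theorem diag : ∀ i : Fin 12, (B i).testBit i = false := by decide +kernel

end Cfsg.Agent.J4C.Ext
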