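import Mathlib
import Cfsg.Agent.J4C.Ext

/-!
# The extraspecial subgroup `2^(1+12)` in groups with the given matrices
-/

set_option autoImplicit false

namespace Cfsg.Agent.J4C.ExtThm

open Cfsg.Agent.J4C.Data Cfsg.Agent.J4C.Ext Cfsg.Agent.Lib Cfsg.Agent.Lib.F2MatGroup
open Cfsg.Agent.LargeExtra.Model Cfsg.Agent.LargeExtra.Pres

theorem evG_append {G : Type*} [Group G] (L : List G) (w w' : List ℕ) :
    evG L (w ++ w') = evG L w * evG L w' := by
  induction w with
  | nil => rw [List.nil_append, evG_nil, one_mul]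
  | cons a w ih => rw [List.cons_append, evG_cons, evG_cons, ih, mul_assoc]

section

variable {C : Type*} [Group C] (φ : C →* GL (Fin 112) (ZMod 2)) (hφ : Function.Injective φ)
  (L : List C) (hL : List.Forall₂ (Codes 112) (L.map φ) mats)

include hφ hL in
theorem eq_of_mem {p : List ℕ × List ℕ} (hp : p ∈ es) :
    evG (runG prog L) p.1 = evG (runG prog L) p.2 := by
  apply hφ
  rw [← evG_map, ← evG_map, ← runG_map]
  exact (check_sound (by norm_num) hL check_ok).1 p hp

include hL in
theorem ne_of_mem {p : List ℕ × List ℕ} (hp : p ∈ ns) :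
    evG (runG prog L) p.1 ≠ evG (runG prog L) p.2 := by
  intro h
  have h1 := (check_sound (by norm_num) hL check_ok).2 p hp
  apply h1
  rw [runG_map, evG_map, evG_map, h]

/-- the generators of the extraspecial group -/
def xx (i : ℕ) : C := getG (runG prog L) (qi i)

/-- the central involution -/
def ze : C := getG (runG prog L) 17

/-- the element of order 3 -/
def re : C := getG (runG prog L) 0

theorem evG_if (b : Bool) (k : ℕ) (R : List C) :
    evG R (if b = true then [k] else []) = zp (getG R k) b := by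
  cases b
  · rfl
  · show getG R k * 1 = getG R k
    rw [mul_one]

theorem evG_pw (k v : ℕ) : evG (runG prog L) (pw k v) = prd (xx L) k v := by
  induction k with
  | zero => rfl
  | succ k ih =>
    rw [pw, evG_append, ih, evG_if]
    rfl

include hφ hL in
theorem rels : Rels B 12 (ze L) (xx L) where
  zz := by
    have h := eq_of_mem φ hφ L hL mem_es1
    simp only [evG_cons, evG_nil, mul_one] at h
    exact h
  comm i hi := by
    have h := eq_of_mem φ hφ L hL (mem_es4 ⟨i, hi⟩)
    simp only [evG_cons, evG_nil, mul_one] at h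
    exact h
  sq i hi := by
    have h := eq_of_mem φ hφ L hL (mem_es5 ⟨i, hi⟩)
    rw [diag ⟨i, hi⟩]
    simp only [evG_cons, evG_nil, mul_one] at h
    exact h
  cm i hi j hj := by
    have h := eq_of_mem φ hφ L hL (mem_es6 ⟨i, hi⟩ ⟨j, hj.trans hi⟩ hj)
    simp only [relW, evG_append, evG_if, evG_cons, evG_nil, mul_one] at h
    exact h

include hφ hL in
theorem r_cube : re L ^ 3 = 1 := by
  have h := eq_of_mem φ hφ L hL mem_es2
  simp only [evG_cons, evG_nil, mul_one] at h
  rw [pow_three]
  exact h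

include hL in
theorem r_ne : re L ≠ 1 := by
  have h := ne_of_mem φ L hL (p := ([0], [])) (by simp [ns])
  simp only [evG_cons, evG_nil, mul_one] at h
  exact h

include hL in
theorem z_ne : ze L ≠ 1 := by
  have h := ne_of_mem φ L hL (p := ([17], [])) (by simp [ns])
  simp only [evG_cons, evG_nil, mul_one] at h
  exact h

include hφ hL in
theorem r_z : re L * ze L = ze L * re L := by
  have h := eq_of_mem φ hφ L hL mem_es3
  simp only [evG_cons, evG_nil, mul_one] at h
  exact h

include hφ hL in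
theorem r_x (i : ℕ) (hi : i < 12) : re L * xx L i =
    zp (ze L) ((img.getD i (0, 0)).2.testBit 0) * (prd (xx L) 12 (img.getD i (0, 0)).1 * re L) := by
  have h := eq_of_mem φ hφ L hL (mem_es7 ⟨i, hi⟩)
  simp only [relR, evG_append, evG_if, evG_pw, evG_cons, evG_nil, mul_one] at h
  exact h

/-- the extraspecial subgroup -/
noncomputable def EE : Subgroup C := (lift (rels φ hφ L hL) hTri).range

theorem x_mem (i : ℕ) (hi : i < 12) : xx L i ∈ EE φ hφ L hL :=
  ⟨q B 12 ⟨i, hi⟩, lift_q _ _ ⟨i, hi⟩⟩

theorem z_mem : ze L ∈ EE φ hφ L hL := ⟨zz, lift_zz _ _⟩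

theorem card_EE : Nat.card (EE φ hφ L hL) = 2 ^ 13 := by
  have hinj := lift_injective (rels φ hφ L hL) hTri hNon (z_ne φ L hL)
  rw [EE, ← Nat.card_congr (MonoidHom.ofInjective hinj).toEquiv]
  exact card_XG

theorem isExtraspecial_EE : Cfsg.IsExtraspecial 2 (EE φ hφ L hL) := by
  have hinj := lift_injective (rels φ hφ L hL) hTri hNon (z_ne φ L hL)
  exact Cfsg.Agent.J2.ExtQuot.isExtraspecial_of_equiv (MonoidHom.ofInjective hinj) isExtraspecial_XG

theorem EE_le (K : Subgroup C) (hz : ze L ∈ K) (hx : ∀ i < 12, xx L i ∈ K) : EE φ hφ L hL ≤ K := by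
  rintro _ ⟨g, rfl⟩
  have h : g ∈ K.comap (lift (rels φ hφ L hL) hTri) := by
    have h1 : (⊤ : Subgroup (XG B 12)) ≤ K.comap (lift (rels φ hφ L hL) hTri) := by
      rw [← closure_q B 12, Subgroup.closure_le]
      rintro _ (rfl | ⟨i, rfl⟩)
      · show lift _ _ zz ∈ K
        rw [lift_zz]; exact hz
      · show lift _ _ (q B 12 i) ∈ K
        rw [lift_q]; exact hx i i.2
    exact h1 (Subgroup.mem_top g)
  exact h

theorem zp_mem {G : Type*} [Group G] (K : Subgroup G) {a : G} (h : a ∈ K) (b : Bool) : zp a b ∈ K := by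
  cases b
  · exact K.one_mem
  · exact h

theorem prd_mem {G : Type*} [Group G] (K : Subgroup G) {x : ℕ → G} {k : ℕ} (h : ∀ i < k, x i ∈ K)
    (v : ℕ) : prd x k v ∈ K := by
  induction k with
  | zero => exact K.one_mem
  | succ k ih => exact K.mul_mem (ih fun i hi => h i (by omega)) (zp_mem K (h k (by omega)) _)

theorem r_normalizes : ∀ e ∈ EE φ hφ L hL, re L * e * (re L)⁻¹ ∈ EE φ hφ L hL := by
  have h1 : EE φ hφ L hL ≤ (EE φ hφ L hL).comap (MulAut.conj (re L)).toMonoidHom := by
    apply EE_le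
    · show re L * ze L * (re L)⁻¹ ∈ EE φ hφ L hL
      rw [r_z φ hφ L hL, mul_inv_cancel_right]
      exact z_mem φ hφ L hL
    · intro i hi
      show re L * xx L i * (re L)⁻¹ ∈ EE φ hφ L hL
      rw [r_x φ hφ L hL i hi, ← mul_assoc, mul_inv_cancel_right]
      exact Subgroup.mul_mem _ (zp_mem _ (z_mem φ hφ L hL) _)
        (prd_mem _ (fun j hj => x_mem φ hφ L hL j hj) _)
  intro e he
  exact h1 he

end

end Cfsg.Agent.J4C.ExtThm
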