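import Mathlib
import Cfsg.Prelude.Def_Sporadic
import Cfsg.Prelude.Def_Transfer

/-!
# Abstract assembly of the structure of the involution centraliser of J4
-/

set_option autoImplicit false

namespace Cfsg.Agent.J4C.Struct

/-- the conclusion of S0476 about the centraliser -/
def IsC (C : Type*) [Group C] : Prop :=
  ∃ Q N M : Subgroup C, Q.Normal ∧ N.Normal ∧ Q ≤ N ∧ N ≤ M ∧ Nat.card Q = 2 ^ 13 ∧
    Cfsg.IsExtraspecial 2 Q ∧ Nat.card N = 3 * 2 ^ 13 ∧ M.index = 2 ∧
      ∃ (_ : (N.subgroupOf M).Normal), Cfsg.IsM22 (M ⧸ N.subgroupOf M)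

theorem isM22_of_equiv {X Y : Type*} [Group X] [Group Y] (e : X ≃* Y) (h : Cfsg.IsM22 X) :
    Cfsg.IsM22 Y := by
  obtain ⟨h1, h2⟩ := h
  exact ⟨e.symm.isSimpleGroup, by rw [← Nat.card_congr e.toEquiv]; exact h2⟩

/-- a normal-in-`N` subgroup of order `2^13` of a normal subgroup `N` of order `3 · 2^13` is normal -/
theorem normal_of_index_three {C : Type*} [Group C] [Finite C] (N Q : Subgroup C) [hN : N.Normal]
    (hQN : Q ≤ N) (hQ : Nat.card Q = 2 ^ 13) (hNc : Nat.card N = 3 * 2 ^ 13)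
    (hn : ∀ n ∈ N, ∀ q ∈ Q, n * q * n⁻¹ ∈ Q) : Q.Normal := by
  have hnorm : (Q.subgroupOf N).Normal := by
    constructor
    intro q hq n
    rw [Subgroup.mem_subgroupOf] at hq ⊢
    exact hn n n.2 q hq
  have hcardq : Nat.card (Q.subgroupOf N) = 2 ^ 13 := by
    rw [Nat.card_congr (Subgroup.subgroupOfEquivOfLe hQN).toEquiv, hQ]
  have hquot : Nat.card (N ⧸ Q.subgroupOf N) = 3 := by
    have h1 := Subgroup.card_eq_card_quotient_mul_card_subgroup (Q.subgroupOf N)
    rw [hNc, hcardq] at h1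
    exact (Nat.eq_of_mul_eq_mul_right (by norm_num) h1).symm
  constructor
  intro q hq c
  have hqN : c * q * c⁻¹ ∈ N := hN.conj_mem q (hQN hq) c
  -- the image in `N / Q` has order dividing `gcd(3, 2^13)`
  have h1 : (c * q * c⁻¹) ^ 2 ^ 13 = 1 := by
    rw [conj_pow]
    have h2 : (⟨q, hq⟩ : Q) ^ Nat.card Q = 1 := pow_card_eq_one'
    rw [hQ] at h2
    have h3 : q ^ 2 ^ 13 = 1 := congrArg Subtype.val h2
    rw [h3]; group
  let w : N ⧸ Q.subgroupOf N := QuotientGroup.mk ⟨c * q * c⁻¹, hqN⟩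
  have h4 : w ^ 2 ^ 13 = 1 := by
    show QuotientGroup.mk _ ^ 2 ^ 13 = 1
    rw [← QuotientGroup.mk_pow]
    have : (⟨c * q * c⁻¹, hqN⟩ : N) ^ 2 ^ 13 = 1 := Subtype.ext h1
    rw [this]; rfl
  have h5 : w ^ 3 = 1 := by
    rw [← hquot]; exact pow_card_eq_one'
  have h6 : w = 1 := by
    have h7 : orderOf w ∣ 2 ^ 13 := orderOf_dvd_of_pow_eq_one h4
    have h8 : orderOf w ∣ 3 := orderOf_dvd_of_pow_eq_one h5
    have h9 : orderOf w ∣ Nat.gcd (2 ^ 13) 3 := Nat.dvd_gcd h7 h8
    rw [show Nat.gcd (2 ^ 13) 3 = 1 by norm_num] at h9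
    exact orderOf_eq_one_iff.mp (Nat.dvd_one.mp h9)
  have h7 := (QuotientGroup.eq_one_iff _).mp h6
  exact h7

theorem isC_of_surjective {C : Type*} [Group C] [Finite C] {A : Type*} [Group A] (H : Subgroup A)
    (hH : H.index = 2) (hM : Cfsg.IsM22 H) (θ : C →* A) (hθ : Function.Surjective θ)
    (hker : Nat.card θ.ker = 3 * 2 ^ 13) (E : Subgroup C) (hEk : E ≤ θ.ker)
    (hEcard : Nat.card E = 2 ^ 13) (hEx : Cfsg.IsExtraspecial 2 E) (r : C) (hrk : r ∈ θ.ker)
    (hr3 : r ^ 3 = 1) (hr1 : r ≠ 1) (hrE : ∀ e ∈ E, r * e * r⁻¹ ∈ E) : IsC C := by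
  have hEn : E.Normal := by
    refine normal_of_index_three θ.ker E hEk hEcard hker ?_
    -- `N ∩ N(E)` contains `E` and `r`
    let W : Subgroup C := θ.ker ⊓ Subgroup.normalizer (E : Set C)
    have hEW : E ≤ W := le_inf hEk Subgroup.le_normalizer
    have hrW : r ∈ W := by
      refine ⟨hrk, ?_⟩
      show r ∈ Subgroup.normalizer (E : Set C)
      rw [Subgroup.mem_normalizer_iff]
      intro e
      constructor
      · intro he; exact hrE e he
      · intro he
        have hr2 : r⁻¹ = r * r := by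
          rw [inv_eq_iff_mul_eq_one, ← pow_two, ← pow_succ']; exact hr3
        have h1 := hrE _ (hrE _ he)
        have h2 : r * (r * (r * e * r⁻¹) * r⁻¹) * r⁻¹ = r ^ 3 * e * (r ^ 3)⁻¹ := by
          rw [pow_three]; group
        rw [h2, hr3] at h1
        simpa using h1
    have h2 : 2 ^ 13 ∣ Nat.card W := by
      rw [← hEcard]; exact Subgroup.card_dvd_of_le hEW
    have h3 : 3 ∣ Nat.card W := by
      have : Fact (Nat.Prime 3) := ⟨by norm_num⟩
      have ho : orderOf r = 3 := orderOf_eq_prime hr3 hr1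
      have ho' : orderOf (⟨r, hrW⟩ : W) = 3 := by rw [← ho]; exact Subgroup.orderOf_mk r hrW
      rw [← ho']; exact orderOf_dvd_natCard _
    have h4 : 3 * 2 ^ 13 ∣ Nat.card W :=
      Nat.Coprime.mul_dvd_of_dvd_of_dvd (by norm_num) h3 h2
    have h5 : Nat.card W ≤ Nat.card θ.ker := Subgroup.card_le_of_le inf_le_left
    have h6 : W = θ.ker := by
      apply Subgroup.eq_of_le_of_card_ge inf_le_left
      rw [hker]
      exact Nat.le_of_dvd Nat.card_pos h4
    intro n hn q hq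
    have h7 : n ∈ W := by rw [h6]; exact hn
    exact (Subgroup.mem_normalizer_iff.mp h7.2 q).mp hq
  refine ⟨E, θ.ker, H.comap θ, hEn, inferInstance, hEk, ?_, hEcard, hEx, hker, ?_, ?_⟩
  · intro x hx
    rw [Subgroup.mem_comap, MonoidHom.mem_ker.mp hx]
    exact H.one_mem
  · rw [Subgroup.index_comap_of_surjective H hθ, hH]
  · refine ⟨inferInstance, ?_⟩
    -- `M / N ≃ H`
    let φ : (H.comap θ) →* H := (θ.comp (H.comap θ).subtype).codRestrict H (fun x => x.2)
    have hφs : Function.Surjective φ := by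
      intro h
      obtain ⟨c, hc⟩ := hθ h
      exact ⟨⟨c, by rw [Subgroup.mem_comap, hc]; exact h.2⟩, Subtype.ext hc⟩
    have hφk : φ.ker = (θ.ker).subgroupOf (H.comap θ) := by
      ext x
      rw [MonoidHom.mem_ker, Subgroup.mem_subgroupOf, MonoidHom.mem_ker]
      constructor
      · intro h; exact congrArg Subtype.val h
      · intro h; exact Subtype.ext h
    have e : (H.comap θ) ⧸ (θ.ker).subgroupOf (H.comap θ) ≃* H :=
      (QuotientGroup.quotientMulEquivOfEq hφk.symm).trans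
        (QuotientGroup.quotientKerEquivOfSurjective φ hφs)
    exact isM22_of_equiv e.symm hM

/-- **Assembly**: an upper bound for `|C|` and enough elements give the structure of `C`. -/
theorem main {C : Type*} [Group C] [Finite C] (hC : Nat.card C ≤ 21799895040) {A : Type*} [Group A]
    [Finite A] (hA : Nat.card A = 887040) (H : Subgroup A) (hH : H.index = 2) (hM : Cfsg.IsM22 H)
    (C0 : Subgroup C) (θ : C0 →* A) (himg : 887040 ≤ Nat.card θ.range) (E : Subgroup C)
    (hE0 : E ≤ C0) (hEk : ∀ e (he : e ∈ E), θ ⟨e, hE0 he⟩ = 1) (hEcard : Nat.card E = 2 ^ 13)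
    (hEx : Cfsg.IsExtraspecial 2 E) (r : C) (hr0 : r ∈ C0) (hrk : θ ⟨r, hr0⟩ = 1)
    (hr3 : r ^ 3 = 1) (hr1 : r ≠ 1) (hrE : ∀ e ∈ E, r * e * r⁻¹ ∈ E) : IsC C := by
  have hfac : Nat.card C0 = Nat.card θ.range * Nat.card θ.ker := by
    rw [Subgroup.card_eq_card_quotient_mul_card_subgroup θ.ker,
      Nat.card_congr (QuotientGroup.quotientKerEquivRange θ).toEquiv]
  have hrange : Nat.card θ.range ≤ 887040 := by
    rw [← hA]; exact Subgroup.card_le_card_group _
  have hrange' : Nat.card θ.range = 887040 := le_antisymm hrange himg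
  have h2 : 2 ^ 13 ∣ Nat.card θ.ker := by
    have h3 : E.subgroupOf C0 ≤ θ.ker := by
      intro x hx
      rw [MonoidHom.mem_ker]
      exact hEk x hx
    have h4 : Nat.card (E.subgroupOf C0) = 2 ^ 13 := by
      rw [Nat.card_congr (Subgroup.subgroupOfEquivOfLe hE0).toEquiv, hEcard]
    rw [← h4]; exact Subgroup.card_dvd_of_le h3
  have h3 : 3 ∣ Nat.card θ.ker := by
    have : Fact (Nat.Prime 3) := ⟨by norm_num⟩
    have ho : orderOf r = 3 := orderOf_eq_prime hr3 hr1
    have hk : (⟨r, hr0⟩ : C0) ∈ θ.ker := MonoidHom.mem_ker.mpr hrk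
    have ho' : orderOf (⟨⟨r, hr0⟩, hk⟩ : θ.ker) = 3 := by
      rw [Subgroup.orderOf_mk, Subgroup.orderOf_mk, ho]
    rw [← ho']; exact orderOf_dvd_natCard _
  have h4 : 3 * 2 ^ 13 ∣ Nat.card θ.ker :=
    Nat.Coprime.mul_dvd_of_dvd_of_dvd (by norm_num) h3 h2
  have h5 : 3 * 2 ^ 13 ≤ Nat.card θ.ker := Nat.le_of_dvd Nat.card_pos h4
  have h6 : Nat.card C0 ≤ Nat.card C := Subgroup.card_le_card_group _
  rw [hfac, hrange'] at h6
  have h7 : Nat.card θ.ker = 3 * 2 ^ 13 := by
    apply le_antisymm _ h5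
    have h8 : 887040 * Nat.card θ.ker ≤ 887040 * (3 * 2 ^ 13) := by
      refine h6.trans (hC.trans ?_)
      norm_num
    exact Nat.le_of_mul_le_mul_left h8 (by norm_num)
  have h8 : C0 = ⊤ := by
    apply Subgroup.eq_top_of_le_card
    rw [hfac, hrange', h7]
    refine hC.trans ?_
    norm_num
  subst h8
  have hsurj : Function.Surjective θ := by
    rw [← MonoidHom.range_eq_top]
    apply Subgroup.eq_top_of_le_card
    rw [hrange', hA]
  let e : C ≃* (⊤ : Subgroup C) := Subgroup.topEquiv.symm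
  let θ' : C →* A := θ.comp e.toMonoidHom
  have hθ' : Function.Surjective θ' := by
    intro a
    obtain ⟨x, hx⟩ := hsurj a
    exact ⟨x, by rw [← hx]; rfl⟩
  have hker : Nat.card θ'.ker = 3 * 2 ^ 13 := by
    rw [← h7]
    apply Nat.card_congr
    exact
      { toFun := fun x => ⟨e x, x.2⟩
        invFun := fun x => ⟨x.1.1, x.2⟩
        left_inv := fun _ => rfl
        right_inv := fun _ => rfl }
  exact isC_of_surjective H hH hM θ' hθ' hker E (fun x hx => hEk x hx) hEcard hEx r hrk hr3 hr1 hrE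

end Cfsg.Agent.J4C.Struct
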