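import Mathlib
import Cfsg.Agent.J4C.Act
import Cfsg.Agent.J4C.ExtThm
import Cfsg.Agent.J4C.Struct
import Cfsg.Agent.S0414

/-!
# The structure of the involution centraliser of J4 from its generators as matrices
-/

set_option autoImplicit false

namespace Cfsg.Agent.J4C.Final

open Cfsg.Agent.J4C.Data Cfsg.Agent.J4C.Steiner Cfsg.Agent.J4C.Theta Cfsg.Agent.J4C.Act
open Cfsg.Agent.J4C.Ext Cfsg.Agent.J4C.ExtThm Cfsg.Agent.J4C.Struct
open Cfsg.Agent.Lib Cfsg.Agent.Lib.F2MatGroup
open Cfsg.Agent.LargeExtra.Model Cfsg.Agent.LargeExtra.Pres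

theorem inv_ok1 : Nat.beq (F2Mat.mul 112 (mats.getD 23 0) (mats.getD 26 0)) (F2Mat.one 112) = true := by
  decide +kernel

theorem inv_ok2 : Nat.beq (F2Mat.mul 112 (mats.getD 24 0) (mats.getD 27 0)) (F2Mat.one 112) = true := by
  decide +kernel

theorem codes26 {g : GL (Fin 112) (ZMod 2)} (h : Codes 112 g (mats.getD 23 0)) :
    Codes 112 g⁻¹ (mats.getD 26 0) := h.inv inv_ok1

theorem codes27 {g : GL (Fin 112) (ZMod 2)} (h : Codes 112 g (mats.getD 24 0)) :
    Codes 112 g⁻¹ (mats.getD 27 0) := h.inv inv_ok2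

theorem tau_inv1 : (tau 23)⁻¹ = tau 26 := by
  ext x; revert x; decide +kernel

theorem tau_inv2 : (tau 24)⁻¹ = tau 27 := by
  ext x; revert x; decide +kernel

/-- the words lie in the kernel of the action on the points -/
theorem words_ok : ∀ i : Fin 18, i.1 ≠ 1 → i.1 ≠ 2 → i.1 ≠ 15 → i.1 ≠ 16 →
    getG (runG prog tauL) i = 1 := by decide +kernel

theorem mats_eq : mats = (List.finRange 28).map (fun i : Fin 28 => mats.getD i 0) := by
  decide +kernel

/-- extension of the 26 generators by two inverses -/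
def ext28 {X : Type*} [Group X] (s : Fin 26 → X) (i : Fin 28) : X :=
  if h : i.1 < 26 then s ⟨i, h⟩ else if i.1 = 26 then (s 23)⁻¹ else (s 24)⁻¹

theorem main {C : Type*} [Group C] [Finite C] (φ : C →* GL (Fin 112) (ZMod 2))
    (hφ : Function.Injective φ) (hcard : Nat.card C ≤ 21799895040) (s : Fin 26 → C)
    (hs : ∀ i, Codes 112 (φ (s i)) (mats.getD i 0)) : IsC C := by
  classical
  obtain ⟨hA, -, H, hH, hM⟩ := Cfsg.Agent.S0414.result (α := Fin 22) (by simp) isSteiner
  let _ := act φ
  obtain ⟨θ, hθ⟩ := exists_theta (vec C) blk (vec_injective C) hblk s (fun i => tau (up i))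
    (fun i => mem_pairs φ i (s i) (hs i))
  let C0 : Subgroup C := Subgroup.closure (Set.range s)
  let s' : Fin 26 → C0 := fun i => ⟨s i, Subgroup.subset_closure ⟨i, rfl⟩⟩
  let f : C0 →* Equiv.Perm (Fin 22) := (Subgroup.subtype _).comp θ
  have hfs : ∀ i, f (s' i) = tau (up i) := hθ
  let g0 : Fin 28 → C0 := ext28 s'
  have hf : ∀ i, f (g0 i) = tau i := by
    intro i
    show f (ext28 s' i) = tau i
    unfold ext28
    split_ifs with h1 h2
    · rw [hfs]; rfl
    · rw [map_inv, hfs]
      have : i = 26 := Fin.ext h2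
      rw [this, ← tau_inv1]; rfl
    · rw [map_inv, hfs]
      have : i = 27 := Fin.ext (by have := i.2; omega)
      rw [this, ← tau_inv2]; rfl
  let L0 : List C0 := (List.finRange 28).map g0
  have hL0 : L0.map f = tauL := by
    rw [List.map_map, tauL]
    apply List.map_congr_left
    intro i _
    exact hf i
  have hcodes : ∀ i : Fin 28, Codes 112 (φ (g0 i : C)) (mats.getD i 0) := by
    intro i
    show Codes 112 (φ ((ext28 s' i : C0) : C)) (mats.getD i 0)
    unfold ext28
    split_ifs with h1 h2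
    · exact hs ⟨i, h1⟩
    · rw [h2, Subgroup.coe_inv, map_inv]
      exact codes26 (hs ⟨23, by norm_num⟩)
    · have h3 : i.1 = 27 := by have := i.2; omega
      rw [h3, Subgroup.coe_inv, map_inv]
      exact codes27 (hs ⟨24, by norm_num⟩)
  let L : List C := L0.map C0.subtype
  have hL : List.Forall₂ (Codes 112) (L.map φ) mats := by
    rw [mats_eq, List.map_map, List.map_map, List.forall₂_map_left_iff,
      List.forall₂_map_right_iff, List.forall₂_same]
    intro i _
    exact hcodes i
  -- the elements of the straight line program lie in `C0` and in the kernel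
  have hget : ∀ i, getG (runG prog L) i = (getG (runG prog L0) i : C0) := by
    intro i
    show getG (runG prog (L0.map C0.subtype)) i = _
    rw [runG_map, getG_map]; rfl
  have hone : ∀ i : Fin 18, i.1 ≠ 1 → i.1 ≠ 2 → i.1 ≠ 15 → i.1 ≠ 16 →
      θ (getG (runG prog L0) i) = 1 := by
    intro i h1 h2 h3 h4
    apply Subtype.ext
    show f (getG (runG prog L0) i) = 1
    rw [← getG_map, ← runG_map, hL0]
    exact words_ok i h1 h2 h3 h4
  let K : Subgroup C := θ.ker.map C0.subtype
  have hK : ∀ i : Fin 18, i.1 ≠ 1 → i.1 ≠ 2 → i.1 ≠ 15 → i.1 ≠ 16 → getG (runG prog L) i ∈ K := by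
    intro i h1 h2 h3 h4
    rw [hget]
    exact ⟨_, hone i h1 h2 h3 h4, rfl⟩
  have hEK : EE φ hφ L hL ≤ K := by
    apply EE_le
    · exact hK 17 (by decide) (by decide) (by decide) (by decide)
    · intro i hi
      have h1 : Nat.sub 14 i = 14 - i := rfl
      refine hK ⟨qi i, ?_⟩ ?_ ?_ ?_ ?_ <;> simp only [qi] <;> omega
  have hE0 : EE φ hφ L hL ≤ C0 := by
    refine hEK.trans ?_
    rintro _ ⟨x, -, rfl⟩
    exact x.2
  have hrK : re L ∈ K := hK 0 (by decide) (by decide) (by decide) (by decide)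
  have hr0 : re L ∈ C0 := by
    obtain ⟨x, -, hx⟩ := hrK
    rw [← hx]; exact x.2
  have hKe : ∀ e (he : e ∈ C0), e ∈ K → θ ⟨e, he⟩ = 1 := by
    rintro e he ⟨x, hx, rfl⟩
    exact hx
  have himg : 887040 ≤ Nat.card θ.range := by
    have h1 : 887040 ≤ Nat.card f.range := by
      apply Cfsg.Agent.J4C.Steiner.card_ge
      intro i
      exact ⟨g0 i, hf i⟩
    have h2 : f.range = θ.range.map (Subgroup.subtype _) := by
      rw [MonoidHom.map_range]
    rw [h2] at h1
    rwa [← Nat.card_congr (Subgroup.equivMapOfInjective θ.range _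
      (Subgroup.subtype_injective _)).toEquiv] at h1
  exact Struct.main hcard hA H hH hM C0 θ himg (EE φ hφ L hL) hE0
    (fun e he => hKe e (hE0 he) (hEK he)) (card_EE φ hφ L hL) (isExtraspecial_EE φ hφ L hL)
    (re L) hr0 (hKe _ hr0 hrK) (r_cube φ hφ L hL) (r_ne φ L hL) (r_normalizes φ hφ L hL)

end Cfsg.Agent.J4C.Final
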