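import Mathlib
import Cfsg.Agent.J4C.Final
import Cfsg.Agent.J4M.Base

/-!
# The centraliser of the involution `z` in the 112-dimensional representation of J4
-/

set_option autoImplicit false

namespace Cfsg.Agent.J4C.Link

open Cfsg.Agent.J4C.Data Cfsg.Agent.J4C.Struct
open Cfsg.Agent.Lib Cfsg.Agent.Lib.F2MatGroup
open Cfsg.Agent.J4M.Base Cfsg.Agent.J4M.DBData Cfsg.Agent.J4M.Words Cfsg.Agent.J4M.Derive

/-- the involution as a word -/
def zw : List ℕ := [10, 11, 12, 13]

/-- the generators as words -/
def sw (i : ℕ) : List ℕ :=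
  if i < 23 then [4 + i] else if i = 23 then [147, 142, 98, 73, 68, 34]
    else if i = 24 then [134, 112, 99, 83, 58, 31] else [3]

theorem zw_in : allIn mA zw = true := by decide +kernel

theorem sw_in : ∀ i : Fin 26, allIn mA (sw i) = true := by decide +kernel

/-- the involution -/
noncomputable def zR : R := ⟨ev zw, ev_mem_R zw_in⟩

/-- the generators -/
noncomputable def sR (i : Fin 26) : R := ⟨ev (sw i), ev_mem_R (sw_in i)⟩

theorem codes_ok : ∀ i : Fin 26, evW 112 db (sw i) = mats.getD i 0 := by decide +kernel

theorem comm_ok : ∀ i : Fin 26, evW 112 db (sw i ++ zw) = evW 112 db (zw ++ sw i) := by decide +kernel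

theorem zsq_ok : evW 112 db (zw ++ zw) = evW 112 db [] := by decide +kernel

theorem zne_ok : Nat.beq (evW 112 db zw) (F2Mat.one 112) = false := by decide +kernel

theorem zR_sq : zR * zR = 1 := by
  apply Subtype.ext
  show ev zw * ev zw = 1
  rw [← ev_append, ev_eq zsq_ok, ev_nil]

theorem zR_ne : zR ≠ 1 := by
  intro h
  have h1 : ev zw = 1 := congrArg Subtype.val h
  have h2 := codes_ev zw
  rw [h1] at h2
  have h3 : F2Mat.toMat 112 (evW 112 db zw) = F2Mat.toMat 112 (F2Mat.one 112) := by
    rw [← h2, F2Mat.toMat_one]; rfl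
  have h4 := F2Mat.toMat_inj (evW_lt (by norm_num) db zw) F2Mat.one_lt' h3
  have h5 := zne_ok
  rw [h4, Nat.beq_refl] at h5
  exact absurd h5 (by decide)

theorem orderOf_zR : orderOf zR = 2 :=
  orderOf_eq_prime (by rw [pow_two]; exact zR_sq) zR_ne

theorem sR_comm (i : Fin 26) : sR i * zR = zR * sR i := by
  apply Subtype.ext
  show ev (sw i) * ev zw = ev zw * ev (sw i)
  rw [← ev_append, ← ev_append, ev_eq (comm_ok i)]

/-- the centraliser -/
noncomputable abbrev Cz : Subgroup R := Subgroup.centralizer ({zR} : Set R)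

/-- the embedding in the matrix group -/
noncomputable def emb : Cz →* GG := R.subtype.comp (Subgroup.subtype _)

theorem emb_injective : Function.Injective emb :=
  R.subtype_injective.comp (Subgroup.subtype_injective _)

/-- **The structure of the centraliser**, given the upper bound for its order. -/
theorem isC (hcard : Nat.card Cz ≤ 21799895040) : IsC Cz := by
  have hfin : Finite R := inferInstance
  refine Cfsg.Agent.J4C.Final.main emb emb_injective hcard
    (fun i => ⟨sR i, Subgroup.mem_centralizer_singleton_iff.mpr (sR_comm i)⟩) ?_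
  intro i
  have h := codes_ev (sw i)
  rw [codes_ok i] at h
  exact h

end Cfsg.Agent.J4C.Link
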